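import Groth.Agent.LccRepLib.Local
import Groth.Agent.EtLocConstSets.Triv

/-!
# Local representability of locally constant sheaves of sets
-/

set_option autoImplicit false
set_option backward.isDefEq.respectTransparency.types false
set_option backward.isDefEq.respectTransparency false

universe u

open CategoryTheory CategoryTheory.Limits AlgebraicGeometry Opposite

noncomputable section

namespace Groth.Agent.LccRepSets

open Groth.Agent Groth.Agent.EtaleSite
open Groth.Agent.LccRepLib (etale_hom_ext etale_left pieceLift pieceLift_comp exists_glue_hom hom_ext_pieces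
  sigma sigmaι sigmaDesc sigmaι_desc sigmaOpen sigmaι_mem disjoint_sigmaOpen exists_mem_sigmaOpen exists_lift_piece
  isFinite_sigmaDesc isFinite_fold exists_fiber_lift)

variable {X : Scheme.{u}}

/-- Restriction of sections. -/
abbrev res (F : EtDesc.Sh X) {V U : X.Etale} (g : V ⟶ U) (s : F.obj.obj (op U)) :
    F.obj.obj (op V) :=
  F.obj.map g.op s

theorem res_comp (F : EtDesc.Sh X) {W V U : X.Etale} (h : W ⟶ V) (g : V ⟶ U)
    (s : F.obj.obj (op U)) : res F (h ≫ g) s = res F h (res F g s) := by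
  simp [res, op_comp, Functor.map_comp]

theorem res_id (F : EtDesc.Sh X) {U : X.Etale} (s : F.obj.obj (op U)) : res F (𝟙 U) s = s := by
  simp [res]

/-- The sheaf condition of a sheaf of sets. -/
theorem isSheaf_sets (F : EtDesc.Sh X) : Presieve.IsSheaf X.smallEtaleTopology F.obj :=
  (isSheaf_iff_isSheaf_of_type _ _).1 F.property

/-- Sections over an empty scheme form a singleton. -/
theorem sect_subsingleton_of_isEmpty (F : EtDesc.Sh X) (U : X.Etale) [IsEmpty U.left] :
    Subsingleton (F.obj.obj (op U)) := by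
  refine ⟨fun s t => ((isSheaf_sets F) (⊥ : Sieve U) ?_).isSeparatedFor.ext fun V g hg => hg.elim⟩
  exact mem_topology_of_forall_exists _ fun u => isEmptyElim u

/-- Sections glue along a decomposition into disjoint open pieces. -/
theorem exists_glue_disjoint (F : EtDesc.Sh X) {U : X.Etale} {μ : Type*} (W : μ → U.left.Opens)
    (hd : ∀ a b, a ≠ b → Disjoint (W a) (W b)) (hc : ∀ x : U.left, ∃ a, x ∈ W a)
    (s : ∀ a, F.obj.obj (op (piece U (W a)))) :
    ∃ t : F.obj.obj (op U), ∀ a, F.obj.map (pieceHom U (W a)).op t = s a := by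
  let P := F.obj
  have hP : (Presieve.ofArrows (fun a => piece U (W a)) fun a => pieceHom U (W a)).IsSheafFor P := by
    rw [Presieve.isSheafFor_iff_generate]
    refine isSheaf_sets F _ (mem_topology_of_forall_exists _ fun u => ?_)
    obtain ⟨a, ha⟩ := hc u
    exact ⟨piece U (W a), pieceHom U (W a), (⟨u, ha⟩ : W a), Sieve.le_generate _ _ _ (Presieve.ofArrows.mk a), rfl⟩
  rw [Presieve.isSheafFor_arrows_iff] at hP
  obtain ⟨t, ht, -⟩ := hP s fun a b Z ga gb h => by
    by_cases hab : a = b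
    · subst hab
      have : ga = gb := by
        apply MorphismProperty.Over.Hom.ext
        refine (cancel_mono (W a).ι).1 ?_
        exact congrArg (fun k => k.left) h
      rw [this]
    · have : IsEmpty Z.left := ⟨fun z => by
        have e : (W a).ι (ga.left z) = (W b).ι (gb.left z) :=
          congrArg (fun k => k.left z) h
        have h2 := (gb.left z).2
        exact ((hd a b hab).le_bot (show (W a).ι (ga.left z) ∈ W a ⊓ W b from ⟨(ga.left z).2, e ▸ h2⟩) : False)⟩
      exact (sect_subsingleton_of_isEmpty F Z).elim _ _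
  exact ⟨t, ht⟩

/-- Sections are determined by their restrictions to open pieces covering the scheme. -/
theorem eq_of_pieces (F : EtDesc.Sh X) {U : X.Etale} {μ : Type*} (W : μ → U.left.Opens)
    (hc : ∀ x : U.left, ∃ a, x ∈ W a) (s t : F.obj.obj (op U))
    (h : ∀ a, F.obj.map (pieceHom U (W a)).op s = F.obj.map (pieceHom U (W a)).op t) : s = t := by
  have hS : Presheaf.equalizerSieve (F := F.obj) s t ∈ X.smallEtaleTopology U := by
    refine mem_topology_of_forall_exists _ fun u => ?_
    obtain ⟨a, ha⟩ := hc u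
    exact ⟨piece U (W a), pieceHom U (W a), (⟨u, ha⟩ : W a), h a, rfl⟩
  exact ((isSheaf_sets F) _ hS).isSeparatedFor.ext fun V g hg => hg

/-- Sections are determined on a surjective étale cover. -/
theorem res_injective (F : EtDesc.Sh X) {V U : X.Etale} (g : V ⟶ U)
    (hg : Function.Surjective g.left.base) : Function.Injective (res F g) := by
  intro s t h
  refine (isSheaf_sets F _ (Covers.singleton_mem g hg)).isSeparatedFor.ext ?_
  rintro W k ⟨Z, a, _, ⟨⟩, rfl⟩
  show F.obj.map (a ≫ g).op s = F.obj.map (a ≫ g).op t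
  exact (res_comp F a g s).trans ((congrArg (res F a) h).trans (res_comp F a g t).symm)

/-- `(D, ξ)` represents the restriction to `Y` of the subpresheaf `Q` of `F`. -/
structure RepOn (F : EtDesc.Sh X) (Q : ∀ W : X.Etale, F.obj.obj (op W) → Prop) {D Y : X.Etale}
    (π : D ⟶ Y) (ξ : F.obj.obj (op D)) : Prop where
  stable : ∀ {W' W : X.Etale} (k : W' ⟶ W) (s : F.obj.obj (op W)), Q W s → Q W' (res F k s)
  mem : Q D ξ
  exists_unique : ∀ (W : X.Etale) (g : W ⟶ Y) (s : F.obj.obj (op W)), Q W s →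
    ∃! v : W ⟶ D, v ≫ π = g ∧ res F v ξ = s

/-- `(D, ξ)` represents the restriction of `F` to `Y`. -/
abbrev Rep (F : EtDesc.Sh X) {D Y : X.Etale} (π : D ⟶ Y) (ξ : F.obj.obj (op D)) : Prop :=
  RepOn F (fun _ _ => True) π ξ

section Coprod

variable {I : Type u} (V : I → X.Etale)

/-- Sections over a disjoint union glue. -/
theorem exists_sigma_sect (F : EtDesc.Sh X) (s : ∀ i, F.obj.obj (op (V i))) :
    ∃ t : F.obj.obj (op (sigma V)), ∀ i, res F (sigmaι V i) t = s i := by
  have hk : ∀ i, ∃ k : piece (sigma V) (sigmaOpen V i) ⟶ V i,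
      k ≫ sigmaι V i = pieceHom (sigma V) (sigmaOpen V i) := fun i => by
    obtain ⟨k, hk⟩ := exists_lift_piece V (𝟙 _) (sigmaOpen V i) i fun w hw => hw
    exact ⟨k, hk.trans (Category.comp_id _)⟩
  choose k hk using hk
  obtain ⟨t, ht⟩ := exists_glue_disjoint F (sigmaOpen V) (disjoint_sigmaOpen V)
    (exists_mem_sigmaOpen V) fun i => res F (k i) (s i)
  refine ⟨t, fun i => ?_⟩
  have e : sigmaι V i = pieceLift (sigmaOpen V i) (sigmaι V i) (sigmaι_mem V i) ≫
      pieceHom _ _ := (pieceLift_comp _ _ _).symm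
  rw [e, res_comp]
  rw [show res F (pieceHom _ (sigmaOpen V i)) t = res F (k i) (s i) from ht i, ← res_comp]
  have : pieceLift (sigmaOpen V i) (sigmaι V i) (sigmaι_mem V i) ≫ k i = 𝟙 _ := by
    refine etale_hom_ext ((cancel_mono (sigmaι V i).left).1 ?_)
    have h := congrArg (fun q => pieceLift (sigmaOpen V i) (sigmaι V i) (sigmaι_mem V i) ≫ q) (hk i)
    simp only [pieceLift_comp] at h
    exact congrArg (fun q => q.left)
      ((Category.assoc _ _ _).trans (h.trans (Category.id_comp _).symm))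
  rw [this, res_id]

end Coprod

/-- Representing objects combine along disjoint unions. -/
theorem rep_sigma (F : EtDesc.Sh X) {I : Type u} (V D : I → X.Etale) (π : ∀ i, D i ⟶ V i)
    (Q : ∀ W : X.Etale, F.obj.obj (op W) → Prop)
    (hQ : ∀ {W' W : X.Etale} (k : W' ⟶ W) (s : F.obj.obj (op W)), Q W s → Q W' (res F k s))
    (ξ : ∀ i, F.obj.obj (op (D i))) (h : ∀ i, RepOn F Q (π i) (ξ i))
    (η : F.obj.obj (op (sigma D))) (hη : ∀ i, res F (sigmaι D i) η = ξ i) (hmem : Q _ η) :
    RepOn F Q (sigmaDesc D fun i => π i ≫ sigmaι V i) η := by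
  refine ⟨hQ, hmem, fun W g s hs => ?_⟩
  let O : I → W.left.Opens := fun i => g.left ⁻¹ᵁ sigmaOpen V i
  have hd : ∀ a b, a ≠ b → Disjoint (O a) (O b) := fun a b hab => by
    rw [disjoint_iff]
    refine le_bot_iff.mp fun w hw => ?_
    exact ((disjoint_sigmaOpen V a b hab).le_bot (show g.left w ∈ _ from hw) : False).elim
  have hc : ∀ x, ∃ a, x ∈ O a := fun x => exists_mem_sigmaOpen V (g.left x)
  choose k hk using fun i => exists_lift_piece V g (O i) i fun w hw => hw
  choose v hv huniq using fun i =>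
    (h i).exists_unique _ (k i) (res F (pieceHom W (O i)) s) (hQ _ _ hs)
  obtain ⟨w, hw⟩ := exists_glue_hom O hd hc fun i => v i ≫ sigmaι D i
  refine ⟨w, ⟨hom_ext_pieces O hc fun i => ?_, eq_of_pieces F O hc _ _ fun i => ?_⟩, fun w' hw' =>
    hom_ext_pieces O hc fun i => ?_⟩
  · rw [reassoc_of% (hw i), sigmaι_desc, reassoc_of% (hv i).1, hk i]
  · show res F _ (res F w η) = res F _ s
    rw [← res_comp, hw i, res_comp, hη i]
    exact (hv i).2
  · have hmem : ∀ x ∈ O i, w'.left x ∈ sigmaOpen D i := fun x hx => by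
      obtain ⟨j, d, hd'⟩ := exists_mem_sigmaOpen D (w'.left x)
      by_cases hji : j = i
      · exact ⟨hji ▸ d, by subst hji; exact hd'⟩
      · exfalso
        have e : g.left x ∈ sigmaOpen V j := by
          rw [← hw'.1, CategoryTheory.MorphismProperty.Comma.comp_left, Scheme.Hom.comp_apply,
            ← hd', ← Scheme.Hom.comp_apply, ← CategoryTheory.MorphismProperty.Comma.comp_left,
            sigmaι_desc]
          exact ⟨(π j).left d, rfl⟩
        exact (disjoint_sigmaOpen V j i hji).le_bot ⟨e, hx⟩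
    obtain ⟨v', hv'⟩ := exists_lift_piece D w' (O i) i hmem
    rw [← hv', hw i]
    refine congrArg (· ≫ sigmaι D i) (huniq i v' ⟨?_, ?_⟩)
    · refine etale_hom_ext ((cancel_mono (sigmaι V i).left).1 ?_)
      have e : (v' ≫ π i) ≫ sigmaι V i = k i ≫ sigmaι V i := by
        rw [hk i, ← hw'.1, ← reassoc_of% hv', sigmaι_desc, Category.assoc]
      exact congrArg (fun q => q.left) e
    · rw [← hη i, ← res_comp, hv', res_comp, hw'.2]

/-- A trivialisation gives a representing disjoint union of copies. -/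
theorem exists_rep_triv (F : EtDesc.Sh X) {V : X.Etale} {M : Type (u + 1)}
    {ι : Type u} (e : ι ≃ M) {m : M → F.obj.obj (op V)} (h : EtLocConstSets.IsTriv F V M m) :
    ∃ ξ : F.obj.obj (op (sigma fun _ : ι => V)),
      Rep F (sigmaDesc (fun _ : ι => V) fun _ => 𝟙 V) ξ := by
  obtain ⟨ξ, hξ⟩ := exists_sigma_sect (fun _ : ι => V) F fun a => m (e a)
  refine ⟨ξ, fun _ _ _ => trivial, trivial, fun W g s _ => ?_⟩
  -- at a point, the value is determined
  have key : ∀ (w : W.left) (a b : ι) (W₁ : X.Etale) (k₁ : W₁ ⟶ W) (w₁ : W₁.left)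
      (W₂ : X.Etale) (k₂ : W₂ ⟶ W) (w₂ : W₂.left) (t : F.obj.obj (op W)),
      k₁.left w₁ = w → k₂.left w₂ = w → res F k₁ t = res F k₁ (res F g (m (e a))) →
      res F k₂ t = res F k₂ (res F g (m (e b))) → a = b := by
    intro w a b W₁ k₁ w₁ W₂ k₂ w₂ t h₁ h₂ e₁ e₂
    haveI : Etale k₁.left := etale_left k₁
    haveI : Etale k₂.left := etale_left k₂
    haveI : Etale W₁.hom := W₁.prop
    haveI : Etale (pullback.fst k₁.left k₂.left ≫ W₁.hom) := inferInstance
    let K : X.Etale := Scheme.Etale.mk (pullback.fst k₁.left k₂.left ≫ W₁.hom)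
    let p₁ : K ⟶ W₁ := MorphismProperty.Over.homMk (pullback.fst k₁.left k₂.left) rfl trivial
    let p₂ : K ⟶ W₂ := MorphismProperty.Over.homMk (pullback.snd k₁.left k₂.left) (by
      show pullback.snd k₁.left k₂.left ≫ W₂.hom = pullback.fst k₁.left k₂.left ≫ W₁.hom
      rw [← MorphismProperty.Over.w k₁, ← MorphismProperty.Over.w k₂]
      exact (pullback.condition_assoc _).symm) trivial
    have hp : p₁ ≫ k₁ = p₂ ≫ k₂ := etale_hom_ext pullback.condition
    obtain ⟨z, -, -⟩ := Scheme.Pullback.exists_preimage_pullback w₁ w₂ (h₁.trans h₂.symm)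
    let ζ := geomPointAt X (K.hom z)
    obtain ⟨φ, -⟩ := exists_fiber_point ζ K z (geomPointAt_apply X (K.hom z) _).symm
    refine e.injective ((h K ((p₁ ≫ k₁) ≫ g) _ ζ φ).1 _ _ ?_)
    show res F ((p₁ ≫ k₁) ≫ g) (m (e a)) = res F ((p₁ ≫ k₁) ≫ g) (m (e b))
    rw [res_comp, res_comp F (p₁ ≫ k₁) g]
    conv_rhs => rw [hp, res_comp, ← e₂, ← res_comp, ← hp, res_comp, e₁]
    rw [res_comp]
  let O : ι → W.left.Opens := fun a =>
    ⟨{w | ∃ (W' : X.Etale) (k : W' ⟶ W) (w' : W'.left), k.left w' = w ∧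
      res F k s = res F k (res F g (m (e a)))}, by
      rw [isOpen_iff_forall_mem_open]
      rintro w ⟨W', k, w', hw, hk⟩
      haveI : Etale k.left := etale_left k
      exact ⟨Set.range k.left, fun _ ⟨y, hy⟩ => ⟨W', k, y, hy, hk⟩,
        k.left.isOpenMap.isOpen_range, w', hw⟩⟩
  have hd : ∀ a b, a ≠ b → Disjoint (O a) (O b) := fun a b hab => by
    rw [disjoint_iff]
    refine le_bot_iff.mp fun w hw => ?_
    obtain ⟨⟨W₁, k₁, w₁, h₁, e₁⟩, W₂, k₂, w₂, h₂, e₂⟩ := hw
    exact (hab (key w a b W₁ k₁ w₁ W₂ k₂ w₂ s h₁ h₂ e₁ e₂)).elim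
  have hc : ∀ w : W.left, ∃ a, w ∈ O a := by
    intro w
    let ζ := geomPointAt X (W.hom w)
    obtain ⟨φ, hφ⟩ := exists_fiber_point ζ W w (geomPointAt_apply X (W.hom w) _).symm
    obtain ⟨W', k, φ', x, hk', hx⟩ := (h W g _ ζ φ).2 s
    refine ⟨e.symm x, W', k, φ'.left (default : Spec (CommRingCat.of _)), ?_, ?_⟩
    · exact (congrArg (fun q => q.left (default : Spec (CommRingCat.of _))) hk').trans hφ
    · rw [Equiv.apply_symm_apply, ← res_comp]; exact hx.symm
  have hpiece : ∀ a, res F (pieceHom W (O a)) s = res F (pieceHom W (O a)) (res F g (m (e a))) := by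
    intro a
    have hS : Presheaf.equalizerSieve (F := F.obj) (res F (pieceHom W (O a)) s)
        (res F (pieceHom W (O a)) (res F g (m (e a)))) ∈ X.smallEtaleTopology (piece W (O a)) := by
      refine mem_topology_of_forall_exists _ fun w => ?_
      obtain ⟨W', k, w', hw, hk⟩ := w.2
      have hO : ∀ y, k.left y ∈ O a := fun y => ⟨W', k, y, rfl, hk⟩
      refine ⟨W', pieceLift (O a) k hO, w', ?_, ?_⟩
      · show res F _ (res F _ s) = res F _ (res F _ _)
        rw [← res_comp, ← res_comp, pieceLift_comp]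
        exact hk
      · exact Subtype.ext ((congrArg (fun q => q.left w') (pieceLift_comp (O a) k hO)).trans hw)
    exact (isSheaf_sets F _ hS).isSeparatedFor.ext fun _ _ hf => hf
  obtain ⟨v, hv⟩ := exists_glue_hom O hd hc fun a =>
    pieceHom W (O a) ≫ g ≫ sigmaι (fun _ : ι => V) a
  refine ⟨v, ⟨hom_ext_pieces O hc fun a => ?_, eq_of_pieces F O hc _ _ fun a => ?_⟩,
    fun v' hv' => hom_ext_pieces O hc fun a => ?_⟩
  · rw [reassoc_of% (hv a), sigmaι_desc, Category.comp_id]
  · show res F _ (res F v ξ) = res F _ s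
    rw [← res_comp, hv a, res_comp, res_comp, hξ a]
    exact (hpiece a).symm
  · have hmem : ∀ w ∈ O a, v'.left w ∈ sigmaOpen (fun _ : ι => V) a := by
      intro w hw
      obtain ⟨b, hb⟩ := exists_mem_sigmaOpen (fun _ : ι => V) (v'.left w)
      suffices b = a by rwa [← this]
      obtain ⟨W₁, k₁, w₁, h₁, e₁⟩ := hw
      let P := v'.left ⁻¹ᵁ sigmaOpen (fun _ : ι => V) b
      obtain ⟨q, hq⟩ := exists_lift_piece (fun _ : ι => V) v' P b fun _ hx => hx
      have hqg : q = pieceHom W P ≫ g := by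
        rw [← hv'.1, ← reassoc_of% hq, sigmaι_desc, Category.comp_id]
      refine key w b a (piece W P) (pieceHom W P) ⟨w, hb⟩ W₁ k₁ w₁ s rfl h₁ ?_ e₁
      rw [← hv'.2, ← res_comp, ← hq, res_comp, hξ b, hqg, res_comp]
    obtain ⟨q, hq⟩ := exists_lift_piece (fun _ : ι => V) v' (O a) a hmem
    rw [← hq, hv a, ← Category.assoc]
    congr 1
    rw [← hv'.1, ← reassoc_of% hq, sigmaι_desc, Category.comp_id]

end Groth.Agent.LccRepSets
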